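import Cfsg.Agent.CenterSquare.Tools

/-!
`p = 2`, centre of index `4`, an essential subgroup, trivial core and full hyperfocal subgroup: `|Z(S)| = 2`.
-/

set_option autoImplicit false
set_option linter.style.haveILetI false

open Cfsg
open scoped commutatorElement

namespace CfsgLib.CenterSquare

open Cfsg.FusionSystem CfsgLib.Fusion

variable {Ω : Type*} [Group Ω] {S : Subgroup Ω} [Finite S] {F : Cfsg.FusionSystem S}
variable {z : Ω} {E : Subgroup Ω} {g : Ω} {t : MulAut E}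

local instance : Fact (Nat.Prime 2) := ⟨Nat.prime_two⟩

/-- The second shear of an essential subgroup, packaged for `p = 2`. -/
structure TwoData (F : Cfsg.FusionSystem S) (z : Ω) (E : Subgroup Ω) (g : Ω) (t : MulAut E) (a : Ω) (y : MulAut E) :
    Prop where
  e : EssData F 2 z E g t
  amem : a ∈ E
  asq : a * a = 1
  anz : a ∉ zen S
  zE : z ∈ E
  yA : y ∈ F.autGroup E
  ytwo : y * y = 1
  ttwo : t * t = 1
  yt : y * t * y⁻¹ = t * y * t⁻¹
  ya : ∀ h : a ∈ E, y ⟨a, h⟩ = ⟨a, h⟩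
  ta : ∀ h : a ∈ E, ((t ⟨a, h⟩ : E) : Ω) = a * z
  ymove : ∀ m : E, ∃ i : ℤ, ((y m : E) : Ω) = m * a ^ i
  conj : ∀ α ∈ F.autGroup E, α * t * α⁻¹ = t ∨ α * t * α⁻¹ = y ∨ α * t * α⁻¹ = t * y * t⁻¹
  centre : ∀ α ∈ F.autGroup E, α * t = t * α → ∀ h : a ∈ E, ((α ⟨a, h⟩ : E) : Ω) = a ∨ ((α ⟨a, h⟩ : E) : Ω) = a * z
  decZ : ∀ w : E, (w : Ω) ∈ zen S → ∃ (i : ℤ) (w0 : E), (w : Ω) = z ^ i * w0 ∧ t w0 = w0 ∧ y w0 = w0
  dec : ∀ w : E, ∃ (i : ℤ) (w0 : Ω), (w : Ω) = a ^ i * w0 ∧ w0 ∈ zen S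
  zmoved : ∀ h : z ∈ E, y ⟨z, h⟩ ≠ ⟨z, h⟩
  fixed : ∀ α ∈ F.autGroup E, ∀ w : E, t w = w → y w = w → t (α w) = α w ∧ y (α w) = α w

theorem exists_twoData (d : Data F 2 z) (hE : F.IsEssential 2 E) :
    ∃ g t a y, TwoData F z E g t a y := by
  obtain ⟨g, t, e⟩ := exists_essData d hE
  letI := commGroupOf e.ab
  obtain ⟨α0, hα0, hne0⟩ := e.other
  set zE : E := ⟨z, e.zmemE d⟩
  have hzp : zE ^ 2 = 1 := Subtype.ext (by
    rw [SubmonoidClass.coe_pow, ← d.zo]; exact pow_orderOf_eq_one z)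
  have hz1 : zE ≠ 1 := fun h => by
    have : orderOf z = 1 := by rw [show z = (zE : Ω) from rfl, h]; simp
    rw [d.zo] at this; norm_num at this
  have hodd : ∀ {u : E} {i : ℤ}, u ^ 2 = 1 → ¬ ((2 : ℕ) : ℤ) ∣ i → u ^ i = u := by
    intro u i hu hi
    rcases Int.even_or_odd i with ⟨c, rfl⟩ | ⟨c, rfl⟩
    · exact absurd ⟨c, by push_cast; ring⟩ hi
    · rw [zpow_add, zpow_one, zpow_mul, zpow_ofNat, hu, one_zpow, one_mul]
  -- involutions with distinct values generate no 2-group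
  have hcl : ∀ u ∈ F.autGroup E, ∀ v ∈ F.autGroup E, orderOf u = 2 → orderOf v = 2 → u ≠ v →
      ¬ IsPGroup 2 ↥(Subgroup.closure {u, v}) := by
    intro u hu v hv huo hvo huv
    refine e.cl u hu v hv huo hvo fun h => ?_
    obtain ⟨k, hk⟩ := Subgroup.mem_zpowers_iff.1 h
    rw [← zpow_mod_orderOf, huo] at hk
    rcases Int.emod_two_eq_zero_or_one k with h0 | h0
    · rw [show ((2 : ℕ) : ℤ) = 2 from rfl, h0, zpow_zero] at hk
      rw [← hk, orderOf_one] at hvo; norm_num at hvo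
    · rw [show ((2 : ℕ) : ℤ) = 2 from rfl, h0, zpow_one] at hk
      exact huv hk
  have hco : ∀ α ∈ F.autGroup E, α * t * α⁻¹ ∈ F.autGroup E ∧ orderOf (α * t * α⁻¹) = 2 := fun α hα =>
    ⟨mul_mem (mul_mem hα e.tA) (inv_mem hα), ((MulAut.conj α).orderOf_eq t).trans e.tord⟩
  set y := α0 * t * α0⁻¹ with hydef
  set z' := α0 zE with hz'def
  have hy : Shear z' y := (e.shear d).conj α0
  have hz'p : z' ^ 2 = 1 := by rw [hz'def, ← map_pow, hzp, map_one]
  obtain ⟨hyA, hyo⟩ := hco α0 hα0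
  have hty : t ≠ y := fun h => hne0 (h ▸ Subgroup.mem_zpowers t)
  obtain ⟨a', ha', hta⟩ := pair hzp hz'p (e.shear d) hy (hcl t e.tA y hyA e.tord hyo hty)
  rw [hodd hzp ha'] at hta
  obtain ⟨b', hb', hyb⟩ := pair hz'p hzp hy (e.shear d) (hcl y hyA t e.tA hyo e.tord hty.symm)
  rw [hodd hz'p hb'] at hyb
  have ht2 : t * t = 1 := by rw [← pow_two, ← e.tord]; exact pow_orderOf_eq_one t
  have hy2 : y * y = 1 := by rw [← pow_two, ← hyo]; exact pow_orderOf_eq_one y
  obtain ⟨hu1, hu2⟩ := hco (t * α0) (mul_mem e.tA hα0)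
  have hu : t * α0 * t * (t * α0)⁻¹ = t * y * t⁻¹ := by rw [hydef]; group
  rw [hu] at hu1 hu2
  have hconj : ∀ α ∈ F.autGroup E, α * t * α⁻¹ = t ∨ α * t * α⁻¹ = y ∨ α * t * α⁻¹ = t * y * t⁻¹ := by
    intro α hα
    by_contra h
    push Not at h
    obtain ⟨hA, ho⟩ := hco α hα
    exact no_third rfl hzp hz'p (by rw [← map_pow, hzp, map_one]) (fun h1 => hz1 (α.injective (h1.trans (map_one α).symm)))
      (e.shear d) hy ((e.shear d).conj α) (hcl t e.tA y hyA e.tord hyo hty) (hcl _ hA t e.tA ho e.tord h.1)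
      (hcl _ hA y hyA ho hyo h.2.1) (hcl _ hA _ hu1 ho hu2 h.2.2)
  have hyty : y * t * y⁻¹ = t * y * t⁻¹ := by
    rcases hconj y hyA with h | h | h
    · exfalso
      have hc : y * t = t * y := mul_inv_eq_iff_eq_mul.1 h
      have h1 : y (t z') = t (y z') := by rw [← MulAut.mul_apply, hc]; rfl
      rw [hta, map_mul, hy.1, hyb, hta] at h1
      have h2 : zE * z' = zE := mul_left_cancel h1
      rw [mul_eq_left] at h2
      exact hz1 (α0.injective (h2.trans (map_one α0).symm))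
    · exfalso
      exact hty (mul_left_cancel (a := y) (mul_inv_eq_iff_eq_mul.1 h))
    · exact h
  have hta' : t (t z') = z' := by rw [← MulAut.mul_apply, ht2]; rfl
  have hcentre : ∀ α ∈ F.autGroup E, α * t = t * α → α z' = z' ∨ α z' = z' * zE := by
    intro α hα hc
    have hsh := hy.conj α
    have hαy : α * y * α⁻¹ = α * α0 * t * (α * α0)⁻¹ := by rw [hydef]; group
    obtain ⟨hA, ho⟩ := hco (α * α0) (mul_mem hα hα0)
    rw [← hαy] at hA ho
    have hup : (α z') ^ 2 = 1 := by rw [← map_pow, hz'p, map_one]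
    rcases hconj (α * α0) (mul_mem hα hα0) with h | h | h <;> rw [← hαy] at h
    · exfalso
      have : y = α⁻¹ * t * α := by rw [← h]; group
      rw [mul_assoc, ← hc, inv_mul_cancel_left] at this
      exact hty this.symm
    · left
      rw [h] at hsh
      obtain ⟨c, hc', hyc⟩ := pair hup hzp hsh (e.shear d) (hcl y hyA t e.tA hyo e.tord hty.symm)
      rw [hodd hup hc', hyb] at hyc
      exact (mul_left_cancel hyc).symm
    · right
      rw [h] at hsh
      have hne : t * y * t⁻¹ ≠ t := fun h' => hty (by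
        rw [mul_inv_eq_iff_eq_mul] at h'
        exact (mul_left_cancel h').symm)
      obtain ⟨c, hc', hyc⟩ := pair hup hzp hsh (e.shear d) (hcl _ hu1 t e.tA hu2 e.tord hne)
      rw [hodd hup hc', MulAut.mul_apply, MulAut.mul_apply] at hyc
      have htinv : t⁻¹ zE = zE := t.injective (by rw [MulAut.apply_inv_self, (e.shear d).1])
      rw [htinv, hyb, map_mul, (e.shear d).1, hta] at hyc
      exact (mul_left_cancel hyc).symm
  have hdec : ∀ w : E, ∃ (i j : ℤ) (w0 : E), w = zE ^ i * z' ^ j * w0 ∧ t w0 = w0 ∧ y w0 = w0 :=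
    decomp hzp hz'p (e.shear d) hy (by norm_num : ¬ ((2:ℕ):ℤ) ∣ 1) (by rw [zpow_one]; exact hta)
      (by norm_num : ¬ ((2:ℕ):ℤ) ∣ 1) (by rw [zpow_one]; exact hyb)
  refine ⟨g, t, z', y, e, z'.2, ?_, fun h => ?_, e.zmemE d, hyA, hy2, ht2, hyty, fun h => hy.1, fun h => ?_,
    fun m => ?_, hconj, fun α hα hc h => ?_, fun w hw => ?_, fun w => ?_, fun h => ?_, ?_⟩
  · simpa [pow_two] using congrArg Subtype.val hz'p
  · have := (e.fix z').2 h
    rw [hta, mul_eq_left] at this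
    exact hz1 this
  · simpa using congrArg Subtype.val hta
  · obtain ⟨i, hi⟩ := hy.2 m
    exact ⟨i, by rw [hi, Subgroup.coe_mul, SubgroupClass.coe_zpow]⟩
  · rcases hcentre α hα hc with h1 | h1
    · left; simpa using congrArg Subtype.val h1
    · right; simpa using congrArg Subtype.val h1
  · obtain ⟨i, j, w0, hd, h1, h2⟩ := hdec w
    have h3 := (e.fix w).2 hw
    rw [hd, map_mul, map_mul, map_zpow, map_zpow, (e.shear d).1, hta, h1, mul_zpow] at h3
    have h4 : zE ^ j = 1 := mul_eq_left.1 (mul_left_cancel (mul_right_cancel h3))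
    have h5 : ((2 : ℕ) : ℤ) ∣ j := by
      by_contra h5
      exact hz1 ((hodd hzp h5).symm.trans h4)
    obtain ⟨c, rfl⟩ := h5
    refine ⟨i, w0, ?_, h1, h2⟩
    rw [hd, zpow_mul, zpow_natCast, hz'p, one_zpow, mul_one, Subgroup.coe_mul, SubgroupClass.coe_zpow]
  · obtain ⟨i, j, w0, hd, h1, -⟩ := hdec w
    refine ⟨j, ((zE ^ i * w0 : E) : Ω), ?_, ?_⟩
    · rw [hd, mul_comm (zE ^ i), mul_assoc]
      simp
    · refine (e.fix _).1 ?_
      rw [map_mul, map_zpow, (e.shear d).1, h1]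
  · intro h'
    rw [show (⟨z, h⟩ : E) = zE from rfl, hyb, mul_eq_left] at h'
    exact hz1 (α0.injective (h'.trans (map_one α0).symm))
  · intro α hα w hwt hwy
    have hall : ∀ γ ∈ F.autGroup E, (γ * t * γ⁻¹) w = w := by
      intro γ hγ
      rcases hconj γ hγ with h | h | h <;> rw [h]
      · exact hwt
      · exact hwy
      · rw [MulAut.mul_apply, MulAut.mul_apply]
        have : t⁻¹ w = w := t.injective (by rw [MulAut.apply_inv_self, hwt])
        rw [this, hwy, hwt]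
    have hαfix : ∀ γ ∈ F.autGroup E, (γ * t * γ⁻¹) (α w) = α w := by
      intro γ hγ
      have := congrArg α (hall (α⁻¹ * γ) (mul_mem (inv_mem hα) hγ))
      simpa [mul_assoc, MulAut.mul_apply, mul_inv_rev] using this
    exact ⟨by simpa using hαfix 1 (one_mem _), by simpa [hydef] using hαfix α0 hα0⟩

variable {a : Ω} {y : MulAut E}

/-- Elements off `E` differ by elements of `E`. -/
lemma TwoData.mul_inv_mem (T : TwoData F z E g t a y) (d : Data F 2 z) {u v : Ω} (hu : u ∈ S) (hv : v ∈ S)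
    (huE : u ∉ E) (hvE : v ∉ E) : u * v⁻¹ ∈ E := by
  obtain ⟨e1, he1, k1, rfl⟩ := T.e.split u hu
  obtain ⟨e2, he2, k2, rfl⟩ := T.e.split v hv
  have hg2 : ∀ k : ℤ, Even k → g ^ k ∈ E := fun k ⟨c, hc⟩ => by
    rw [hc, ← two_mul, zpow_mul, zpow_ofNat]
    exact E.zpow_mem (T.e.ZE (d.pw g T.e.gS)) c
  have h1 : Odd k1 := Int.not_even_iff_odd.1 fun h => huE (E.mul_mem he1 (hg2 k1 h))
  have h2 : Odd k2 := Int.not_even_iff_odd.1 fun h => hvE (E.mul_mem he2 (hg2 k2 h))
  have h3 : e1 * g ^ k1 * (e2 * g ^ k2)⁻¹ = e1 * g ^ (k1 - k2) * e2⁻¹ := by rw [zpow_sub]; group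
  rw [h3]
  exact E.mul_mem (E.mul_mem he1 (hg2 _ (h1.sub_odd h2))) (E.inv_mem he2)

/-- Every element is `x` or `x * v`, `x ∈ E`, for a fixed `v` off `E`. -/
lemma TwoData.split' (T : TwoData F z E g t a y) (d : Data F 2 z) {v : Ω} (hv : v ∈ S) (hvE : v ∉ E) {s : Ω}
    (hs : s ∈ S) : ∃ (i : ℤ) (w : Ω), w ∈ zen S ∧ (s = a ^ i * w ∨ s = a ^ i * w * v) := by
  by_cases hsE : s ∈ E
  · obtain ⟨i, w0, h, hw⟩ := T.dec ⟨s, hsE⟩
    exact ⟨i, w0, hw, Or.inl h⟩
  · obtain ⟨i, w0, h, hw⟩ := T.dec ⟨s * v⁻¹, T.mul_inv_mem d hs hv hsE hvE⟩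
    exact ⟨i, w0, hw, Or.inr (by rw [← h]; group)⟩

/-- `z` is not a square of a central element. -/
lemma TwoData.sq_ne (T : TwoData F z E g t a y) (d : Data F 2 z) {w : Ω} (hw : w ∈ zen S) : w * w ≠ z := by
  letI := commGroupOf T.e.ab
  intro h
  obtain ⟨i, w0, hd, h1, h2⟩ := T.decZ ⟨w, T.e.ZE hw⟩ hw
  refine T.zmoved T.zE ?_
  have hzz : (⟨z, T.zE⟩ : E) * ⟨z, T.zE⟩ = ⟨z * z, mul_mem T.zE T.zE⟩ := rfl
  have e1 : (⟨z, T.zE⟩ : E) = (⟨z, T.zE⟩ : E) ^ i * (⟨z, T.zE⟩ : E) ^ i * (w0 * w0) := by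
    refine Subtype.ext ?_
    show z = _
    simp only [Subgroup.coe_mul, SubgroupClass.coe_zpow]
    have hc := T.e.ab _ (w0 : E).2 _ (E.zpow_mem T.zE i)
    calc z = (z ^ i * (w0 : Ω)) * (z ^ i * (w0 : Ω)) := by rw [← hd]; exact h.symm
      _ = z ^ i * ((w0 : Ω) * z ^ i) * (w0 : Ω) := by group
      _ = _ := by rw [hc]; group
  have e2 : (⟨z, T.zE⟩ : E) ^ i * (⟨z, T.zE⟩ : E) ^ i = 1 := by
    refine Subtype.ext ?_
    simp only [Subgroup.coe_mul, SubgroupClass.coe_zpow, Subgroup.coe_one]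
    rw [← zpow_add, ← two_mul, zpow_mul, zpow_ofNat]
    have hz2 : z ^ 2 = 1 := by rw [← d.zo]; exact pow_orderOf_eq_one z
    rw [hz2, one_zpow]
  rw [e2, one_mul] at e1
  rw [e1, map_mul, h2]

/-- Two non-commuting involutions cannot both lie off `E`. -/
lemma TwoData.third (T : TwoData F z E g t a y) (d : Data F 2 z) {b c : Ω} (hb : b ∈ S) (hc : c ∈ S)
    (hbE : b ∉ E) (hcE : c ∉ E) (hb2 : b * b = 1) (hc2 : c * c = 1) (hcb : c * b ≠ b * c) : False := by
  obtain ⟨i, w, hd, hw⟩ := T.dec ⟨c * b⁻¹, T.mul_inv_mem d hc hb hcE hbE⟩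
  have hd' : c = a ^ i * w * b := by rw [← hd]; group
  have hwc : ∀ s ∈ S, s * w = w * s := (mem_zen.1 hw).2
  have haS := T.e.hES T.amem
  rcases Int.even_or_odd i with ⟨k, rfl⟩ | ⟨k, rfl⟩
  · refine hcb ?_
    have hc' : c = w * b := by rw [hd', zpow_add, ← (Commute.refl a).mul_zpow, T.asq, one_zpow, one_mul]
    rw [hc', ← mul_assoc b w, hwc b hb]
  · have ha : a ^ (2 * k + 1) = a := by rw [zpow_add, zpow_one, zpow_mul, zpow_ofNat, pow_two, T.asq, one_zpow, one_mul]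
    rw [ha] at hd'
    have hainv : a⁻¹ = a := inv_eq_of_mul_eq_one_right T.asq
    have hbinv : b⁻¹ = b := inv_eq_of_mul_eq_one_right hb2
    obtain ⟨l, hl⟩ := Subgroup.mem_zpowers_iff.1 (d.comm a haS b hb)
    rw [hainv, hbinv] at hl
    have hsq : w * w * z ^ l = 1 := by
      have e1 : a * w * b * (a * w * b) = w * w * (a * b * a * b) := by
        have h1 : a * w = w * a := hwc a haS
        have h2 : b * w = w * b := hwc b hb
        calc a * w * b * (a * w * b) = w * a * b * (w * a) * b := by rw [h1]; group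
          _ = w * a * (b * w) * a * b := by group
          _ = w * (a * w) * b * a * b := by rw [h2]; group
          _ = _ := by rw [h1]; group
      rw [hl, ← e1, ← hd']
      exact hc2
    rcases Int.even_or_odd l with ⟨j, rfl⟩ | ⟨j, rfl⟩
    · refine T.anz (mem_zen.2 ⟨haS, fun s hs => ?_⟩)
      -- then `a` and `b` commute, so `b` lies in `E`
      exfalso
      have hz2 : z ^ 2 = 1 := by rw [← d.zo]; exact pow_orderOf_eq_one z
      rw [← two_mul, zpow_mul, zpow_ofNat, hz2, one_zpow] at hl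
      refine hbE (T.e.mem_of_commute d T.amem T.anz hb ?_)
      have h3 : (a * b) * (a * b) = 1 := by rw [hl]; group
      have h4 : (a * b)⁻¹ = a * b := inv_eq_of_mul_eq_one_right h3
      rw [mul_inv_rev, hainv, hbinv] at h4
      exact h4
    · have hz2 : z ^ 2 = 1 := by rw [← d.zo]; exact pow_orderOf_eq_one z
      rw [zpow_add, zpow_one, zpow_mul, zpow_ofNat, hz2, one_zpow, one_mul] at hsq
      refine T.sq_ne d hw ?_
      rw [eq_inv_of_mul_eq_one_left hsq]
      exact inv_eq_of_mul_eq_one_right (by rw [← pow_two]; exact hz2)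

/-- Automorphisms of odd order preserve `E`. -/
lemma TwoData.preserve (T : TwoData F z E g t a y) (d : Data F 2 z) {β : MulAut S} (hβ : β ∈ F.autGroup S)
    (hodd : Nat.Coprime (orderOf β) 2) {e : Ω} (he : e ∈ E) (heS : e ∈ S) : ((β ⟨e, heS⟩ : S) : Ω) ∈ E := by
  haveI := finite_mulAut (S := S) le_rfl
  set aS : S := ⟨a, T.e.hES T.amem⟩
  have hnz : ∀ γ : MulAut S, ((γ aS : S) : Ω) ∉ zen S := fun γ h => T.anz (by
    have := apply_mem_zen γ⁻¹ h
    rwa [MulAut.inv_apply_self] at this)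
  have hpres : ∀ γ : MulAut S, ((γ aS : S) : Ω) ∈ E → ∀ x : S, (x : Ω) ∈ E → ((γ x : S) : Ω) ∈ E := by
    intro γ h x hx
    refine T.e.mem_of_commute d h (hnz γ) (γ x).2 ?_
    have : x * aS = aS * x := Subtype.ext (T.e.ab _ hx _ T.amem)
    have h2 := congrArg γ this
    rw [map_mul, map_mul] at h2
    exact congrArg Subtype.val h2
  refine hpres β ?_ ⟨e, heS⟩ he
  by_contra hb
  have hsq : ∀ γ : MulAut S, ((γ aS : S) : Ω) * ((γ aS : S) : Ω) = 1 := fun γ => by
    rw [← Subgroup.coe_mul, ← map_mul, show aS * aS = 1 from Subtype.ext T.asq, map_one, Subgroup.coe_one]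
  by_cases hcE : (((β * β) aS : S) : Ω) ∈ E
  · have h1 : 1 < orderOf β := lt_of_le_of_ne (orderOf_pos β) fun h1 =>
      hb (by rw [orderOf_eq_one_iff.1 h1.symm]; exact T.amem)
    obtain ⟨k, -, hk⟩ := Nat.exists_mul_mod_eq_one_of_coprime hodd.symm h1
    have hp : ∀ n : ℕ, ∀ x : S, (x : Ω) ∈ E → ((((β * β) ^ n) x : S) : Ω) ∈ E := fun n => by
      induction n with
      | zero => exact fun x hx => hx
      | succ n ih => exact fun x hx => by rw [pow_succ, MulAut.mul_apply]; exact ih _ (hpres _ hcE x hx)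
    have h := hp k aS T.amem
    have e2 : (β * β) ^ k = β := by rw [← pow_two, ← pow_mul, ← pow_mod_orderOf, hk, pow_one]
    rw [e2] at h
    exact hb h
  · refine T.third d (β aS).2 ((β * β) aS).2 hb hcE (hsq β) (hsq (β * β)) fun h => ?_
    -- `β a` would commute with `a`
    refine hb (T.e.mem_of_commute d T.amem T.anz (β aS).2 ?_)
    have h2 : β (β aS) * β aS = β aS * β (β aS) := Subtype.ext h
    rw [← map_mul, ← map_mul] at h2
    exact congrArg Subtype.val (β.injective h2)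

set_option maxHeartbeats 800000 in
/-- `p = 2`: an essential subgroup and full hyperfocal subgroup force `|Z(S)| = 2`. -/
theorem main_two (d : Data F 2 z) (hcore : F.core = ⊥) (hhyp : F.hyperfocalSubgroup 2 = S)
    (hE : F.IsEssential 2 E) : (∀ w ∈ zen S, w ∈ Subgroup.zpowers z) ∧ ∀ x ∈ E, x ^ 2 = 1 := by
  classical
  haveI := finite_mulAut (S := S) le_rfl
  obtain ⟨g, t, a, y, T⟩ := exists_twoData d hE
  letI := commGroupOf T.e.ab
  obtain ⟨hzS', hzc⟩ := mem_zen.1 d.zmem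
  set zS : S := ⟨z, hzS'⟩
  have hz2 : z * z = 1 := by rw [← pow_two, ← d.zo]; exact pow_orderOf_eq_one z
  have hβz : ∀ β ∈ F.autGroup S, β zS = zS := by
    intro β hβ
    obtain ⟨k, hk⟩ := Subgroup.mem_zpowers_iff.1 (d.zimg β hβ hzS')
    rw [← zpow_mod_orderOf, d.zo] at hk
    rcases Int.emod_two_eq_zero_or_one k with h0 | h0
    · exfalso
      rw [show ((2 : ℕ) : ℤ) = 2 from rfl, h0, zpow_zero] at hk
      have h1 : β zS = 1 := Subtype.ext hk.symm
      have h2 : zS = 1 := β.injective (h1.trans (map_one β).symm)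
      have h3 := d.zo
      rw [show z = (zS : Ω) from rfl, h2, Subgroup.coe_one, orderOf_one] at h3
      norm_num at h3
    · rw [show ((2 : ℕ) : ℤ) = 2 from rfl, h0, zpow_one] at hk
      exact Subtype.ext hk.symm
  -- a second essential subgroup
  obtain ⟨E2, g2, t2, b, y2, T2, hne⟩ : ∃ (E2 : Subgroup Ω) (g2 : Ω) (t2 : MulAut E2) (b : Ω) (y2 : MulAut E2),
      TwoData F z E2 g2 t2 b y2 ∧ E2 ≠ E := by
    by_contra hno
    push Not at hno
    have hab : ∀ u ∈ E, ∀ v ∈ E, u * v = v * u := T.e.ab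
    have hinv : ∀ β ∈ F.autGroup S, ∀ x : S, (x : Ω) ∈ E → ((β x : S) : Ω) ∈ E := by
      let H : Subgroup (MulAut S) :=
        { carrier := {β | ∀ x : S, (x : Ω) ∈ E ↔ ((β x : S) : Ω) ∈ E}
          one_mem' := fun x => Iff.rfl
          mul_mem' := fun {u v} hu hv x => (hv x).trans (hu (v x))
          inv_mem' := fun {u} hu x => by
            have := hu (u⁻¹ x)
            rw [MulAut.apply_inv_self] at this
            exact this.symm }
      have hH : F.autGroup S ≤ H := by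
        refine autGroup_self_le d H (fun β hβ hs x => ?_) fun β hβ hc x => ?_
        · obtain ⟨s, hs, hsx⟩ := hs
          rw [hsx]
          have hn : ∀ u ∈ S, ∀ e ∈ E, u * e * u⁻¹ ∈ E := fun u hu e he => by
            have h2 := E.mul_mem (Subgroup.zpowers_le.2 T.zE (d.comm u hu e (T.e.hES he))) he
            rwa [inv_mul_cancel_right] at h2
          exact ⟨hn s hs x, fun h => by simpa [mul_assoc] using hn s⁻¹ (S.inv_mem hs) _ h⟩
        · refine ⟨fun h => T.preserve d hβ hc h x.2, fun h => ?_⟩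
          have := T.preserve d (inv_mem hβ) (by rwa [orderOf_inv]) h (β x).2
          rwa [show (⟨((β x : S) : Ω), (β x).2⟩ : S) = β x from rfl, MulAut.inv_apply_self] at this
      exact fun β hβ x hx => (hH hβ x).1 hx
    have hEbot := eq_bot_of_invariant d hcore T.e.hES hab hinv fun P hP α _ x hx => by
      obtain ⟨g', t', b', y', T'⟩ := exists_twoData d hP
      obtain rfl := hno P g' t' b' y' T'
      exact (α x).2
    exact T.anz (by
      have := T.amem
      rw [hEbot, Subgroup.mem_bot] at this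
      rw [this]; exact one_mem _)
  have hcentE : ∀ {c : Ω} {P : Subgroup Ω} {gP : Ω} {tP : MulAut P} {aP : Ω} {yP : MulAut P},
      TwoData F z P gP tP aP yP → aP = c → ∀ {Q : Subgroup Ω} {gQ : Ω} {tQ : MulAut Q} {aQ : Ω} {yQ : MulAut Q},
      TwoData F z Q gQ tQ aQ yQ → c ∈ Q → P = Q := by
    intro c P gP tP aP yP TP hc Q gQ tQ aQ yQ TQ hcQ
    subst hc
    haveI := finite_of_le TQ.e.hES
    have hle : P ≤ Q := fun x hx => TQ.e.mem_of_commute d hcQ TP.anz (TP.e.hES hx) (TP.e.ab _ hx _ TP.amem)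
    have h3 := Subgroup.relIndex_mul_relIndex (zen S) P Q TP.e.ZE hle
    rw [TP.e.relZ, TQ.e.relZ] at h3
    exact le_antisymm hle (Subgroup.relIndex_eq_one.1 (by omega))
  have hbS : b ∈ S := T2.e.hES T2.amem
  have haS : a ∈ S := T.e.hES T.amem
  have hbE : b ∉ E := fun h => hne (hcentE T2 rfl T h)
  -- displacement subgroups
  let Dset : Set Ω := {x | ∃ β ∈ F.autGroup S, Nat.Coprime (orderOf β) 2 ∧ ∃ w : S, (w : Ω) ∈ zen S ∧
    x = (w : Ω)⁻¹ * ((β w : S) : Ω)}
  set D := Subgroup.closure Dset with hDdef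
  have hDZ : D ≤ zen S := (Subgroup.closure_le _).2 (by
    rintro _ ⟨β, -, -, w, hw, rfl⟩
    exact mul_mem (inv_mem hw) (apply_mem_zen β hw))
  -- the common fixed part of an essential subgroup absorbs the displacements
  have hDfix : ∀ {P : Subgroup Ω} {gP : Ω} {tP : MulAut P} {aP : Ω} {yP : MulAut P},
      TwoData F z P gP tP aP yP → ∀ x ∈ D, ∀ h : x ∈ P, tP ⟨x, h⟩ = ⟨x, h⟩ ∧ yP ⟨x, h⟩ = ⟨x, h⟩ := by
    intro P gP tP aP yP TP
    letI := commGroupOf TP.e.ab
    let K : Subgroup Ω := Subgroup.map P.subtype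
      { carrier := {v : P | tP v = v ∧ yP v = v}
        one_mem' := ⟨map_one _, map_one _⟩
        mul_mem' := fun ha hb => ⟨by rw [map_mul, ha.1, hb.1], by rw [map_mul, ha.2, hb.2]⟩
        inv_mem' := fun ha => ⟨by rw [map_inv, ha.1], by rw [map_inv, ha.2]⟩ }
    have hK : D ≤ K := by
      refine (Subgroup.closure_le _).2 ?_
      rintro _ ⟨β, hβ, hc, w, hw, rfl⟩
      obtain ⟨i, w0, hd, h1, h2⟩ := TP.decZ ⟨w, TP.e.ZE hw⟩ hw
      -- restrict `β` to `P`
      have hmem : ∀ v : P, ((β ⟨(v : Ω), TP.e.hES v.2⟩ : S) : Ω) ∈ P := fun v => TP.preserve d hβ hc v.2 _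
      haveI := finite_of_le TP.e.hES
      let r : P →* Ω := (S.subtype.comp β.toMonoidHom).comp (Subgroup.inclusion TP.e.hES)
      have hr : r ∈ F.Hom P := restrict ((mem_autGroup le_rfl).1 hβ) TP.e.hES
      have hrr : r.range = P := by
        refine Subgroup.eq_of_le_of_card_ge (by rintro _ ⟨v, rfl⟩; exact hmem v) ?_
        exact (Nat.card_congr (MonoidHom.ofInjective (F.injective_of_mem hr)).toEquiv).le
      have hα := mem_autGroup_of_eq hr fun v => isoOfHom_apply (F.injective_of_mem hr) hrr v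
      obtain ⟨f1, f2⟩ := TP.fixed _ hα w0 h1 h2
      set α := isoOfHom (F.injective_of_mem hr) hrr
      refine ⟨w0⁻¹ * α w0, ⟨by rw [map_mul, map_inv, h1, f1], by rw [map_mul, map_inv, h2, f2]⟩, ?_⟩
      show (w0 : Ω)⁻¹ * ((α w0 : P) : Ω) = _
      have hw' : w = zS ^ i * ⟨(w0 : Ω), TP.e.hES w0.2⟩ := Subtype.ext (by
        rw [Subgroup.coe_mul, SubgroupClass.coe_zpow]; exact hd)
      rw [hw', map_mul, map_zpow, hβz β hβ, Subgroup.coe_mul, Subgroup.coe_mul, SubgroupClass.coe_zpow,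
        show ((α w0 : P) : Ω) = r w0 from isoOfHom_apply _ _ _]
      show (w0 : Ω)⁻¹ * ((β ⟨(w0 : Ω), _⟩ : S) : Ω) = (z ^ i * (w0 : Ω))⁻¹ * (z ^ i * _)
      group
    intro x hx h
    obtain ⟨v, hv, hvx⟩ := hK hx
    obtain rfl : v = ⟨x, h⟩ := Subtype.ext hvx
    exact hv
  -- the subgroup generated by `a`, `b`, `z` and the displacements
  have hDc : ∀ x ∈ D, ∀ s ∈ S, s * x = x * s := fun x hx => (mem_zen.1 (hDZ hx)).2
  have hswap : ∀ i j : ℤ, ∃ l : ℤ, b ^ j * a ^ i = a ^ i * b ^ j * z ^ l := by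
    intro i j
    obtain ⟨l, hl⟩ := Subgroup.mem_zpowers_iff.1
      (d.comm _ (S.inv_mem (S.zpow_mem hbS j)) _ (S.inv_mem (S.zpow_mem haS i)))
    refine ⟨l, ?_⟩
    rw [hl]
    group
  let M : Subgroup Ω :=
    { carrier := {s | ∃ (i j : ℤ) (w : Ω), w ∈ zen S ∧ w ∈ Subgroup.zpowers z ⊔ D ∧ s = a ^ i * b ^ j * w}
      one_mem' := ⟨0, 0, 1, one_mem _, one_mem _, by simp⟩
      mul_mem' := by
        rintro _ _ ⟨i, j, w, hw, hwD, rfl⟩ ⟨i', j', w', hw', hwD', rfl⟩
        obtain ⟨l, hl⟩ := hswap i' j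
        refine ⟨i + i', j + j', z ^ l * w * w', mul_mem (mul_mem (zpow_mem d.zmem l) hw) hw',
          mul_mem (mul_mem (Subgroup.mem_sup_left (Subgroup.zpow_mem_zpowers z l)) hwD) hwD', ?_⟩
        have h1 := (mem_zen.1 hw).2 _ (S.mul_mem (S.zpow_mem haS i') (S.zpow_mem hbS j'))
        have h2 := (mem_zen.1 (zpow_mem d.zmem l : z ^ l ∈ zen S)).2 _ (S.zpow_mem hbS j')
        calc a ^ i * b ^ j * w * (a ^ i' * b ^ j' * w')
            = a ^ i * b ^ j * (w * (a ^ i' * b ^ j')) * w' := by group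
          _ = a ^ i * (b ^ j * a ^ i') * b ^ j' * w * w' := by rw [← h1]; group
          _ = a ^ i * a ^ i' * b ^ j * (z ^ l * b ^ j') * w * w' := by rw [hl]; group
          _ = _ := by rw [← h2, zpow_add, zpow_add]; group
      inv_mem' := by
        rintro _ ⟨i, j, w, hw, hwD, rfl⟩
        obtain ⟨l, hl⟩ := hswap (-i) (-j)
        refine ⟨-i, -j, z ^ l * w⁻¹, mul_mem (zpow_mem d.zmem l) (inv_mem hw),
          mul_mem (Subgroup.mem_sup_left (Subgroup.zpow_mem_zpowers z l)) (inv_mem hwD), ?_⟩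
        have h1 := (mem_zen.1 (inv_mem hw : w⁻¹ ∈ zen S)).2 _ (S.mul_mem (S.zpow_mem hbS (-j)) (S.zpow_mem haS (-i)))
        calc (a ^ i * b ^ j * w)⁻¹ = w⁻¹ * (b ^ (-j) * a ^ (-i)) := by group
          _ = _ := by rw [← h1, hl]; group }
  have haM : a ∈ M := ⟨1, 0, 1, one_mem _, one_mem _, by simp⟩
  have hbM : b ∈ M := ⟨0, 1, 1, one_mem _, one_mem _, by simp⟩
  have hzM : Subgroup.zpowers z ≤ M := Subgroup.zpowers_le.2
    ⟨0, 0, z, d.zmem, Subgroup.mem_sup_left (Subgroup.mem_zpowers z), by simp⟩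
  have hDM : ∀ x ∈ D, x ∈ M := fun x hx => ⟨0, 0, x, hDZ hx, Subgroup.mem_sup_right hx, by simp⟩
  have hMS : M ≤ S := by
    rintro _ ⟨i, j, w, hw, -, rfl⟩
    exact S.mul_mem (S.mul_mem (S.zpow_mem haS i) (S.zpow_mem hbS j)) hw.1
  -- displacements of an automorphism of `S`
  let G0 : Subgroup (MulAut S) :=
    { carrier := {β | ∀ s : S, (s : Ω)⁻¹ * ((β s : S) : Ω) ∈ M}
      one_mem' := fun s => by simp
      mul_mem' := fun {u v} hu hv s => by
        have := M.mul_mem (hv s) (hu (v s))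
        rw [← mul_assoc, mul_inv_cancel_right] at this
        exact this
      inv_mem' := fun {u} hu s => by
        have := M.inv_mem (hu (u⁻¹ s))
        simpa [mul_inv_rev] using this }
  have haS2 : ∀ {P : Subgroup Ω} {gP : Ω} {tP : MulAut P} {aP : Ω} {yP : MulAut P},
      TwoData F z P gP tP aP yP → ∀ β ∈ F.autGroup S, Nat.Coprime (orderOf β) 2 → ∀ h : aP ∈ S,
        aP⁻¹ * ((β ⟨aP, h⟩ : S) : Ω) ∈ M := by
    intro P gP tP aP yP TP β hβ hc h
    haveI := finite_of_le TP.e.hES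
    have hmem : ∀ v : P, ((β ⟨(v : Ω), TP.e.hES v.2⟩ : S) : Ω) ∈ P := fun v => TP.preserve d hβ hc v.2 _
    let r : P →* Ω := (S.subtype.comp β.toMonoidHom).comp (Subgroup.inclusion TP.e.hES)
    have hr : r ∈ F.Hom P := restrict ((mem_autGroup le_rfl).1 hβ) TP.e.hES
    have hrr : r.range = P := by
      refine Subgroup.eq_of_le_of_card_ge (by rintro _ ⟨v, rfl⟩; exact hmem v) ?_
      exact (Nat.card_congr (MonoidHom.ofInjective (F.injective_of_mem hr)).toEquiv).le
    have hα := mem_autGroup_of_eq hr fun v => isoOfHom_apply (F.injective_of_mem hr) hrr v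
    set α := isoOfHom (F.injective_of_mem hr) hrr
    have hαv : ∀ v : P, ((α v : P) : Ω) = ((β ⟨(v : Ω), TP.e.hES v.2⟩ : S) : Ω) := fun v => isoOfHom_apply _ _ _
    have hI : α * tP * α⁻¹ ∈ autInducedBy S P := by
      refine mem_autInducedBy.2 ⟨((β ⟨gP, TP.e.gS⟩ : S) : Ω), (β _).2, fun x => ?_⟩
      obtain ⟨v, rfl⟩ := α.surjective x
      rw [MulAut.mul_apply, MulAut.mul_apply, MulAut.inv_apply_self, hαv, hαv,
        show (⟨((tP v : P) : Ω), TP.e.hES (tP v).2⟩ : S) =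
          ⟨gP, TP.e.gS⟩ * ⟨(v : Ω), TP.e.hES v.2⟩ * ⟨gP, TP.e.gS⟩⁻¹ from Subtype.ext (TP.e.ht v),
        map_mul, map_mul, map_inv]
      rfl
    have hcm : α * tP = tP * α := by
      obtain ⟨k, hk⟩ := TP.e.ind _ hI
      rw [← zpow_mod_orderOf, TP.e.tord] at hk
      rcases Int.emod_two_eq_zero_or_one k with h0 | h0
      · exfalso
        rw [show ((2 : ℕ) : ℤ) = 2 from rfl, h0, zpow_zero, conj_eq_one_iff] at hk
        have := TP.e.tord
        rw [hk, orderOf_one] at this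
        norm_num at this
      · rw [show ((2 : ℕ) : ℤ) = 2 from rfl, h0, zpow_one] at hk
        exact mul_inv_eq_iff_eq_mul.1 hk
    rw [← hαv ⟨aP, TP.amem⟩]
    rcases TP.centre α hα hcm TP.amem with h1 | h1 <;> rw [h1]
    · simp
    · rw [inv_mul_cancel_left]; exact hzM (Subgroup.mem_zpowers z)
  have hG0 : F.autGroup S ≤ G0 := by
    refine autGroup_self_le d G0 (fun β hβ hs x => ?_) fun β hβ hc x => ?_
    · obtain ⟨s, hs, hsx⟩ := hs
      rw [hsx]
      refine hzM ?_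
      have := d.comm _ (S.inv_mem x.2) s hs
      simpa [mul_assoc] using this
    · let X : Subgroup S :=
        { carrier := {s | (s : Ω)⁻¹ * ((β s : S) : Ω) ∈ M}
          one_mem' := by simp
          mul_mem' := fun {u v} hu hv => by
            show ((u * v : S) : Ω)⁻¹ * ((β (u * v) : S) : Ω) ∈ M
            set m := (u : Ω)⁻¹ * ((β u : S) : Ω)
            have hu' : m ∈ M := hu
            have h1 : (v : Ω)⁻¹ * m * (v : Ω) ∈ M := by
              have h2 := M.mul_mem (hzM (d.comm _ (S.inv_mem v.2) m (hMS hu'))) hu'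
              rwa [inv_inv, inv_mul_cancel_right] at h2
            have := M.mul_mem h1 hv
            rw [map_mul, Subgroup.coe_mul, Subgroup.coe_mul]
            convert this using 1
            simp only [m]
            group
          inv_mem' := fun {u} hu => by
            show ((u⁻¹ : S) : Ω)⁻¹ * ((β u⁻¹ : S) : Ω) ∈ M
            set m := (u : Ω)⁻¹ * ((β u : S) : Ω)
            have h1 : (u : Ω) * m⁻¹ * (u : Ω)⁻¹ ∈ M := by
              have hu' : m ∈ M := hu
              have h2 := M.mul_mem (hzM (d.comm _ u.2 m⁻¹ (S.inv_mem (hMS hu')))) (M.inv_mem hu')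
              rwa [inv_inv, mul_assoc (_ * _) m, mul_inv_cancel, mul_one] at h2
            convert h1 using 1
            rw [map_inv, Subgroup.coe_inv, Subgroup.coe_inv]
            simp only [m]
            group }
      have hXa : (⟨a, haS⟩ : S) ∈ X := haS2 T β hβ hc haS
      have hXb : (⟨b, hbS⟩ : S) ∈ X := haS2 T2 β hβ hc hbS
      have hXw : ∀ w : S, (w : Ω) ∈ zen S → w ∈ X := fun w hw =>
        hDM _ (Subgroup.subset_closure ⟨β, hβ, hc, w, hw, rfl⟩)
      obtain ⟨i, w, hw, h⟩ := T.split' d hbS hbE x.2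
      rcases h with h | h
      · have : x = ⟨a, haS⟩ ^ i * ⟨w, hw.1⟩ := Subtype.ext (by simp [h])
        rw [this]
        exact X.mul_mem (X.zpow_mem hXa i) (hXw _ hw)
      · have : x = ⟨a, haS⟩ ^ i * ⟨w, hw.1⟩ * ⟨b, hbS⟩ := Subtype.ext (by simp [h])
        rw [this]
        exact X.mul_mem (X.mul_mem (X.zpow_mem hXa i) (hXw _ hw)) hXb
  -- displacements of the essential automizers
  have hG1 : ∀ {P : Subgroup Ω} {gP : Ω} {tP : MulAut P} {aP : Ω} {yP : MulAut P},
      TwoData F z P gP tP aP yP → aP ∈ M → ∀ α ∈ F.autGroup P, ∀ v : P, (v : Ω)⁻¹ * ((α v : P) : Ω) ∈ M := by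
    intro P gP tP aP yP TP hPM
    let H : Subgroup (MulAut P) :=
      { carrier := {β | ∀ s : P, (s : Ω)⁻¹ * ((β s : P) : Ω) ∈ M}
        one_mem' := fun s => by simp
        mul_mem' := fun {u v} hu hv s => by
          have := M.mul_mem (hv s) (hu (v s))
          rw [← mul_assoc, mul_inv_cancel_right] at this
          exact this
        inv_mem' := fun {u} hu s => by
          have := M.inv_mem (hu (u⁻¹ s))
          simpa [mul_inv_rev] using this }
    have hcomm : ∀ α ∈ F.autGroup P, α * tP = tP * α → α ∈ H := by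
      intro α hα hc v
      obtain ⟨β, hβ, hβv⟩ := TP.e.ext' α hα hc
      rw [← hβv v (TP.e.hES v.2)]
      exact hG0 hβ ⟨v, _⟩
    have hyH : yP ∈ H := fun v => by
      obtain ⟨i, hi⟩ := TP.ymove v
      rw [hi, inv_mul_cancel_left]
      exact M.zpow_mem hPM i
    have htH : tP ∈ H := hcomm tP TP.e.tA rfl
    intro α hα
    suffices h : α ∈ H from h
    rcases TP.conj α hα with h | h | h
    · exact hcomm α hα (mul_inv_eq_iff_eq_mul.1 h)
    · have hk : (yP * tP * α) * tP * (yP * tP * α)⁻¹ = tP := by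
        rw [show (yP * tP * α) * tP * (yP * tP * α)⁻¹ = yP * tP * (α * tP * α⁻¹) * tP⁻¹ * yP⁻¹ by group, h,
          show yP * tP * yP * tP⁻¹ * yP⁻¹ = yP * (tP * yP * tP⁻¹) * yP⁻¹ by group, ← TP.yt,
          show yP * (yP * tP * yP⁻¹) * yP⁻¹ = (yP * yP) * tP * (yP * yP)⁻¹ by group, TP.ytwo]
        simp
      have := H.mul_mem (H.inv_mem (H.mul_mem hyH htH))
        (hcomm _ (mul_mem (mul_mem TP.yA TP.e.tA) hα) (mul_inv_eq_iff_eq_mul.1 hk))
      rwa [inv_mul_cancel_left] at this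
    · have hk : (yP * α) * tP * (yP * α)⁻¹ = tP := by
        rw [show (yP * α) * tP * (yP * α)⁻¹ = yP * (α * tP * α⁻¹) * yP⁻¹ by group, h, ← TP.yt,
          show yP * (yP * tP * yP⁻¹) * yP⁻¹ = (yP * yP) * tP * (yP * yP)⁻¹ by group, TP.ytwo]
        simp
      have := H.mul_mem (H.inv_mem hyH) (hcomm _ (mul_mem TP.yA hα) (mul_inv_eq_iff_eq_mul.1 hk))
      rwa [inv_mul_cancel_left] at this
  -- the focal subgroup lies in `M`
  have hSM : S ≤ M := by
    have hcM : ∀ u ∈ S, ∀ v ∈ S, u⁻¹ * (v * u * v⁻¹) ∈ M := fun u hu v hv => by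
      have := hzM (d.comm _ (S.inv_mem hu) v hv)
      simpa [mul_assoc] using this
    let EF : Cfsg.FusionSystem S :=
      { Hom := fun P => {φ | φ ∈ F.Hom P ∧ ∀ x : P, (x : Ω)⁻¹ * φ x ∈ M}
        le_of_mem := fun h => F.le_of_mem h.1
        injective_of_mem := fun h => F.injective_of_mem h.1
        conj_mem := fun {P g'} hP hg => ⟨F.conj_mem hP hg, fun x => hcM x (hP x.2) g' hg⟩
        comp_mem := fun {P R φ ψ} hφ hψ h => ⟨F.comp_mem hφ.1 hψ.1 h, fun x => by
          have := M.mul_mem (hφ.2 x) (hψ.2 ⟨φ x, h x⟩)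
          simpa [mul_assoc] using this⟩
        inv_mem := fun {P φ} hφ => by
          obtain ⟨ψ, hψ, hψφ⟩ := F.inv_mem hφ.1
          refine ⟨ψ, ⟨hψ, ?_⟩, hψφ⟩
          rintro ⟨_, x, rfl⟩
          rw [hψφ x]
          simpa using M.inv_mem (hφ.2 x) }
    have hle : F ≤ EF := by
      refine le_of_essential d.hS d.hF EF fun P hP α hα => ?_
      rcases hP with rfl | hP
      · exact (mem_autGroup le_rfl).2 ⟨(mem_autGroup le_rfl).1 hα, fun x => hG0 hα x⟩
      · refine (mem_autGroup hP.1.1).2 ⟨(mem_autGroup hP.1.1).1 hα, fun x => ?_⟩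
        obtain ⟨gP, tP, c, yP, TP⟩ := exists_twoData d hP
        by_cases h1 : c ∈ E
        · obtain rfl := hcentE TP rfl T h1
          exact hG1 T haM α hα x
        by_cases h2 : c ∈ E2
        · obtain rfl := hcentE TP rfl T2 h2
          exact hG1 T2 hbM α hα x
        exfalso
        exact T.third d hbS (TP.e.hES TP.amem) hbE h1 T2.asq TP.asq fun h =>
          h2 (T2.e.mem_of_commute d T2.amem T2.anz (TP.e.hES TP.amem) h)
    have hfoc : F.focalSubgroup ≤ M := by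
      rw [Cfsg.FusionSystem.focalSubgroup, Subgroup.closure_le]
      rintro _ ⟨P, φ, x, hφ, rfl⟩
      exact (hle P hφ).2 x
    refine le_trans ?_ hfoc
    rw [focalSubgroup_eq d.hS d.hF, hhyp]
    exact le_sup_left
  -- hence the centre is `⟨z⟩ D`
  have hZD : zen S ≤ Subgroup.zpowers z ⊔ D := by
    intro w hw
    obtain ⟨i, j, w', hw', hwD, hd⟩ := hSM hw.1
    have hab : a ^ i * b ^ j ∈ zen S := by
      have : a ^ i * b ^ j = w * w'⁻¹ := by rw [hd, mul_inv_cancel_right]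
      rw [this]; exact mul_mem hw (inv_mem hw')
    have hbj : b ^ j ∈ E := by
      have := E.mul_mem (E.inv_mem (E.zpow_mem T.amem i)) (T.e.ZE hab)
      rwa [inv_mul_cancel_left] at this
    rcases Int.even_or_odd j with ⟨c, rfl⟩ | ⟨c, rfl⟩
    · rw [zpow_add, ← (Commute.refl b).mul_zpow, T2.asq, one_zpow, mul_one] at hab hd
      rcases Int.even_or_odd i with ⟨c', rfl⟩ | ⟨c', rfl⟩
      · rw [zpow_add, ← (Commute.refl a).mul_zpow, T.asq, one_zpow, one_mul] at hd
        rw [hd]; exact hwD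
      · rw [zpow_add, zpow_one, zpow_mul, zpow_ofNat, pow_two, T.asq, one_zpow, one_mul] at hab
        exact absurd hab T.anz
    · rw [zpow_add, zpow_one, zpow_mul, zpow_ofNat, pow_two, T2.asq, one_zpow, one_mul] at hbj
      exact absurd hbj hbE
  -- `D` is invariant, hence trivial
  have hD : D = ⊥ := by
    refine eq_bot_of_invariant d hcore (fun x hx => (hDZ hx).1) (fun u hu v hv => ((hDc u hu) v (hDZ hv).1).symm) ?_ ?_
    · intro ρ hρ x hx
      have hle : D ≤ ((D.subgroupOf S).comap ρ.toMonoidHom).map S.subtype := by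
        refine (Subgroup.closure_le _).2 ?_
        rintro _ ⟨β, hβ, hc, w, hw, rfl⟩
        refine ⟨w⁻¹ * β w, ?_, by simp⟩
        show ((ρ (w⁻¹ * β w) : S) : Ω) ∈ D
        refine Subgroup.subset_closure ⟨ρ * β * ρ⁻¹, mul_mem (mul_mem hρ hβ) (inv_mem hρ),
          by rwa [← MulAut.conj_apply ρ β, MulEquiv.orderOf_eq], ρ w, apply_mem_zen ρ hw, ?_⟩
        simp [MulAut.mul_apply]
      obtain ⟨v, hv, hvx⟩ := hle hx
      obtain rfl : v = x := Subtype.ext hvx
      exact hv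
    · intro P hP α hα x hx
      obtain ⟨gP, tP, c, yP, TP⟩ := exists_twoData d hP
      letI := commGroupOf TP.e.ab
      obtain ⟨h1, h2⟩ := hDfix TP (x : Ω) hx x.2
      obtain ⟨f1, f2⟩ := TP.fixed α hα x h1 h2
      have hz : ((α x : P) : Ω) ∈ zen S := (TP.e.fix _).1 f1
      haveI : (D.subgroupOf S).Normal := ⟨fun n hn g' => by
        rw [show g' * n = n * g' from Subtype.ext (hDc _ hn g' g'.2), mul_inv_cancel_right]
        exact hn⟩
      obtain ⟨u, hu, v, hv, huv⟩ := Subgroup.mem_sup_of_normal_right.1 (show (⟨_, hz.1⟩ : S) ∈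
        (Subgroup.zpowers z).subgroupOf S ⊔ D.subgroupOf S by
          rw [← Subgroup.subgroupOf_sup (Subgroup.zpowers_le.2 hzS') (fun x hx => (hDZ hx).1)]
          exact hZD hz)
      obtain ⟨k, hk⟩ := Subgroup.mem_zpowers_iff.1 (hu : (u : Ω) ∈ Subgroup.zpowers z)
      have hprod : ((α x : P) : Ω) = z ^ k * (v : Ω) := by
        rw [hk]; exact (congrArg Subtype.val huv).symm
      set vP : P := ⟨v, TP.e.ZE (hDZ hv)⟩
      obtain ⟨g1, g2⟩ := hDfix TP (v : Ω) hv vP.2
      have heq : α x = (⟨z, TP.zE⟩ : P) ^ k * vP := Subtype.ext (by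
        rw [Subgroup.coe_mul, SubgroupClass.coe_zpow]; exact hprod)
      rcases Int.even_or_odd k with ⟨c', rfl⟩ | ⟨c', rfl⟩
      · rw [zpow_add, ← (Commute.refl z).mul_zpow, hz2, one_zpow, one_mul] at hprod
        rw [hprod]; exact hv
      · exfalso
        refine TP.zmoved TP.zE ?_
        have hzz : (⟨z, TP.zE⟩ : P) ^ (2 * c' + 1) = ⟨z, TP.zE⟩ := Subtype.ext (by
          rw [SubgroupClass.coe_zpow, zpow_add, zpow_one, zpow_mul, zpow_ofNat, pow_two, hz2, one_zpow, one_mul])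
        rw [hzz] at heq
        rw [heq, map_mul, g2] at f2
        exact mul_right_cancel f2
  have hZz : ∀ w ∈ zen S, w ∈ Subgroup.zpowers z := fun w hw => by
    have := hZD hw
    rwa [hD, sup_bot_eq] at this
  refine ⟨hZz, fun x hx => ?_⟩
  obtain ⟨i, w0, hd, hw0⟩ := T.dec ⟨x, hx⟩
  obtain ⟨k, hk⟩ := Subgroup.mem_zpowers_iff.1 (hZz w0 hw0)
  have hx' : x = a ^ i * z ^ k := by rw [hk]; exact hd
  rw [hx', pow_two]
  have hc := T.e.ab _ (E.zpow_mem T.zE k) _ (E.zpow_mem T.amem i)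
  calc a ^ i * z ^ k * (a ^ i * z ^ k) = a ^ i * (z ^ k * a ^ i) * z ^ k := by group
    _ = (a ^ i * a ^ i) * (z ^ k * z ^ k) := by rw [hc]; group
    _ = 1 := by rw [← (Commute.refl a).mul_zpow, ← (Commute.refl z).mul_zpow, T.asq, hz2, one_zpow, one_zpow, mul_one]

end CfsgLib.CenterSquare
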