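import Cfsg.Prelude.Def_Transfer
import Cfsg.Agent.CenterSquare.Odd
import Cfsg.Agent.CenterSquare.Two
import Cfsg.Agent.Forms.DihedralEight
import Cfsg.Agent.PGroup.Basic
import Cfsg.Agent.PReduced.Hom

/-!
Saturated systems with trivial core and full hyperfocal subgroup on a group with centre of index at most `p²`.
-/

set_option autoImplicit false
set_option linter.style.haveILetI false

open Cfsg
open scoped commutatorElement

namespace CfsgLib.CenterSquare

open Cfsg.FusionSystem CfsgLib.Fusion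

variable {Ω : Type*} [Group Ω] {S : Subgroup Ω} [Finite S] {F : Cfsg.FusionSystem S} {p : ℕ} [hp : Fact p.Prime]

theorem extraspecial_of_center_index (hS : IsPGroup p S) (hF : F.IsSaturated p) (hS1 : S ≠ ⊥)
    (hcore : F.core = ⊥) (hhyp : F.hyperfocalSubgroup p = S) (hZ : (Subgroup.center S).index ≤ p ^ 2) :
    Cfsg.IsExtraspecial p S ∧ Nat.card S = p ^ 3 ∧ (p ≠ 2 → Monoid.exponent S = p) ∧
      (p = 2 → Nonempty (S ≃* DihedralGroup 4)) := by
  haveI : Nontrivial S := (Subgroup.nontrivial_iff_ne_bot S).2 hS1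
  have hna : ¬ IsMulCommutative S := by
    intro hab
    refine hS1 (le_bot_iff.1 (hcore ▸ le_sSup (?_ : F.IsNormal S)))
    exact isNormal_of_abelian hS hF ⟨le_rfl, fun R _ φ hφ x => val_mem hφ x⟩ hab
  obtain ⟨z, d⟩ := exists_data hS hF hna hZ
  obtain ⟨hzS, hzc⟩ := mem_zen.1 d.zmem
  -- an essential subgroup
  obtain ⟨E, hE⟩ : ∃ E, F.IsEssential p E := by
    by_contra h
    push Not at h
    have hbot := eq_bot_of_invariant d hcore (Subgroup.zpowers_le.2 hzS)
      (fun u hu v hv => by
        obtain ⟨i, rfl⟩ := Subgroup.mem_zpowers_iff.1 hu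
        obtain ⟨j, rfl⟩ := Subgroup.mem_zpowers_iff.1 hv
        rw [← zpow_add, ← zpow_add, add_comm]) (fun β hβ x hx => by
        obtain ⟨i, hi⟩ := Subgroup.mem_zpowers_iff.1 hx
        have e1 : x = (⟨z, hzS⟩ : S) ^ i := Subtype.ext (by rw [SubgroupClass.coe_zpow]; exact hi.symm)
        rw [e1, map_zpow, SubgroupClass.coe_zpow]
        exact Subgroup.zpow_mem _ (d.zimg β hβ hzS) i) fun P hP => absurd hP (h P)
    have := d.zo
    rw [show z = 1 from Subgroup.mem_bot.1 (hbot ▸ Subgroup.mem_zpowers z), orderOf_one] at this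
    exact hp.out.one_lt.ne this
  have hmain : ∀ P, F.IsEssential p P → (∀ w ∈ zen S, w ∈ Subgroup.zpowers z) ∧ ∀ x ∈ P, x ^ p = 1 := by
    intro P hP
    by_cases hp2 : p = 2
    · subst hp2
      exact main_two d hcore hhyp hP
    · exact main_odd d hp2 hcore hP
  have hZz : zen S = Subgroup.zpowers z :=
    le_antisymm (fun w hw => (hmain E hE).1 w hw) (Subgroup.zpowers_le.2 d.zmem)
  have hcZ : Nat.card (Subgroup.center S) = p := by
    rw [← zen_subgroupOf, Nat.card_congr (Subgroup.subgroupOfEquivOfLe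
      (show zen S ≤ S from inf_le_left)).toEquiv, hZz, Nat.card_zpowers, d.zo]
  have hidx : (Subgroup.center S).index = p ^ 2 := by rw [← zen_subgroupOf]; exact d.idx
  have hcard : Nat.card S = p ^ 3 := by
    rw [← (Subgroup.center S).card_mul_index, hcZ, hidx]; ring
  have hcomm : commutator S = Subgroup.center S := by
    have hle : commutator S ≤ Subgroup.center S := by
      rw [commutator_def, Subgroup.commutator_le]
      intro u _ v _
      rw [← zen_subgroupOf, Subgroup.mem_subgroupOf, hZz]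
      exact d.comm u u.2 v v.2
    refine Subgroup.eq_of_le_of_card_ge hle (le_of_eq ?_)
    haveI : Fact (Nat.card (Subgroup.center S)).Prime := ⟨hcZ.symm ▸ hp.out⟩
    rcases Subgroup.eq_bot_or_eq_top_of_prime_card ((commutator S).subgroupOf (Subgroup.center S)) with h | h
    · exfalso
      rw [Subgroup.subgroupOf_eq_bot] at h
      have h2 : commutator S = ⊥ := disjoint_self.1 (h.mono_right hle)
      refine hna ⟨⟨fun u v => ?_⟩⟩
      have h3 : ⁅u, v⁆ ∈ commutator S :=
        commutator_def S ▸ Subgroup.commutator_mem_commutator (Subgroup.mem_top u) (Subgroup.mem_top v)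
      rw [h2, Subgroup.mem_bot] at h3
      exact commutatorElement_eq_one_iff_mul_comm.1 h3
    · rw [Subgroup.subgroupOf_eq_top] at h
      rw [le_antisymm hle h]
  have hfr : frattini S = Subgroup.center S := by
    refine le_antisymm ?_ (hcomm ▸ CfsgLib.PGroup.commutator_le_frattini hS)
    intro v hv
    rw [← QuotientGroup.eq_one_iff]
    refine CfsgLib.PReduced.frattini_le_of_exponent (p := p) (QuotientGroup.mk' (Subgroup.center S))
      (fun u w => ?_) (fun u => ?_) hv
    · rw [← map_mul, ← map_mul, QuotientGroup.mk'_eq_mk']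
      refine ⟨(u * w)⁻¹ * (w * u), ?_, mul_inv_cancel_left _ _⟩
      rw [← hcomm, show (u * w)⁻¹ * (w * u) = ⁅w⁻¹, u⁻¹⁆ by rw [commutatorElement_def]; group]
      exact commutator_def S ▸ Subgroup.commutator_mem_commutator (Subgroup.mem_top _) (Subgroup.mem_top _)
    · rw [← map_pow, ← MonoidHom.mem_ker, QuotientGroup.ker_mk', ← zen_subgroupOf, Subgroup.mem_subgroupOf,
        SubmonoidClass.coe_pow]
      exact d.pw u u.2
  -- an element of order `p` outside `E`
  obtain ⟨g, t, e⟩ := exists_essData d hE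
  obtain ⟨u, huS, huE, hup⟩ : ∃ u ∈ S, u ∉ E ∧ u ^ p = 1 := by
    by_contra hno
    push Not at hno
    have hchar : ∀ x ∈ S, x ^ p = 1 → x ∈ E := fun x hx h => by_contra fun hxE => hno x hx hxE h
    have hbot := eq_bot_of_invariant d hcore e.hES e.ab (fun β _ x hx => by
      refine hchar _ (β x).2 ?_
      rw [← SubmonoidClass.coe_pow, ← map_pow,
        show x ^ p = 1 from Subtype.ext (by rw [SubmonoidClass.coe_pow]; exact (hmain E hE).2 _ hx), map_one,
        Subgroup.coe_one]) fun P hP α _ x _ => hchar _ (hP.1.1 (α x).2) ((hmain P hP).2 _ (α x).2)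
    have h1 := e.relZ
    rw [hbot, Subgroup.relIndex_bot_right] at h1
    exact hp.out.one_lt.ne h1
  refine ⟨⟨⟨hS, hfr, hcomm⟩, hcZ⟩, hcard, fun hp2 => ?_, fun hp2 => ?_⟩
  · have hall : ∀ s : S, s ^ p = 1 := by
      let X : Subgroup S := CfsgLib.PGroup.omegaSubgroup hp2 (fun a b => hcomm ▸
        (commutator_def S ▸ Subgroup.commutator_mem_commutator (Subgroup.mem_top a) (Subgroup.mem_top b)))
      intro s
      obtain ⟨e', he', k, hk⟩ := e.split s s.2
      obtain ⟨e'', he'', l, hl⟩ := e.split u huS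
      have hl' : ¬ (p : ℤ) ∣ l := by
        rintro ⟨c, rfl⟩
        refine huE ?_
        rw [hl, zpow_mul, zpow_natCast]
        exact E.mul_mem he'' (E.zpow_mem (e.ZE (d.pw g e.gS)) c)
      obtain ⟨c, b, hcb⟩ := (Nat.prime_iff_prime_int.1 hp.out).coprime_iff_not_dvd.2 hl'
      -- `g` is a product of elements of order `p`
      have hEX : ∀ x : S, (x : Ω) ∈ E → x ∈ X := fun x hx => by
        show x ^ p = 1
        exact Subtype.ext (by rw [SubmonoidClass.coe_pow]; exact (hmain E hE).2 _ hx)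
      have hgl : (⟨g, e.gS⟩ : S) ^ l ∈ X := by
        have h1 : (⟨g, e.gS⟩ : S) ^ l = ⟨e'', e.hES he''⟩⁻¹ * ⟨u, huS⟩ := Subtype.ext (by
          rw [SubgroupClass.coe_zpow]; simp [hl])
        rw [h1]
        exact X.mul_mem (X.inv_mem (hEX _ he'')) (Subtype.ext (by rw [SubmonoidClass.coe_pow]; exact hup))
      have hgX : (⟨g, e.gS⟩ : S) ∈ X := by
        have h1 : (⟨g, e.gS⟩ : S) = ((⟨g, e.gS⟩ : S) ^ p) ^ c * ((⟨g, e.gS⟩ : S) ^ l) ^ b := by
          rw [← zpow_natCast, ← zpow_mul, ← zpow_mul, ← zpow_add,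
            show (p : ℤ) * c + l * b = 1 by linarith, zpow_one]
        rw [h1]
        exact X.mul_mem (X.zpow_mem (hEX _ (e.ZE (by rw [SubmonoidClass.coe_pow]; exact d.pw g e.gS))) c)
          (X.zpow_mem hgl b)
      have h1 : s = ⟨e', e.hES he'⟩ * (⟨g, e.gS⟩ : S) ^ k := Subtype.ext (by simp [hk])
      rw [h1]
      exact X.mul_mem (hEX _ he') (X.zpow_mem hgX k)
    exact (hp.out.eq_one_or_self_of_dvd _ (Monoid.exponent_dvd_of_forall_pow_eq_one hall)).resolve_left fun h => by
      obtain ⟨x, hx⟩ := exists_ne (1 : S)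
      exact hx (Monoid.exp_eq_one_iff.1 h |>.elim x 1)
  · subst hp2
    obtain ⟨c, hc, hcZ'⟩ : ∃ c, c ∈ E ∧ c ∉ zen S := SetLike.not_le_iff_exists.1 fun h => by
      have := e.relZ
      rw [Subgroup.relIndex_eq_one.2 h] at this
      norm_num at this
    refine CfsgLib.Forms.exists_mulEquiv_dihedral_four (by rw [hcard]; norm_num) (a := (⟨u, huS⟩ : S))
      (s := ⟨c, e.hES hc⟩) (Subtype.ext (by simpa [pow_two] using hup)) fun h => huE ?_
    exact e.mem_of_commute d hc hcZ' huS (congrArg Subtype.val h).symm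

end CfsgLib.CenterSquare
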